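import Mathlib

set_option autoImplicit false
universe u

open CategoryTheory Opposite Limits

namespace Groth.Agent.H5.ConstSh

variable {C : Type u} [SmallCategory C] (J : GrothendieckTopology C)

noncomputable instance : PreservesFiniteLimits (constantSheaf J AddCommGrpCat.{u}) := by
  unfold constantSheaf
  infer_instance

noncomputable instance (U : C) :
    PreservesFiniteLimits ((sheafSections J AddCommGrpCat.{u}).obj (op U)) := by
  have : (sheafSections J AddCommGrpCat.{u}).obj (op U) =
    sheafToPresheaf J AddCommGrpCat.{u} ⋙ (evaluation Cᵒᵖ AddCommGrpCat.{u}).obj (op U) := rfl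
  rw [this]
  infer_instance



lemma surjective_sections (B C' : AddCommGrpCat.{u}) (g : B ⟶ C')
    (hg : Function.Surjective g) (U : C) :
    Function.Surjective (((constantSheaf J AddCommGrpCat.{u}).map g).hom.app (op U)) := by
  let V := forget AddCommGrpCat.{u}
  let e := constantCommuteCompose J V
  let Γ := (sheafSections J (Type u)).obj (op U)
  obtain ⟨σ, hσ⟩ := hg.hasRightInverse
  let σ' : V.obj C' ⟶ V.obj B := TypeCat.ofHom σ
  have h1 : σ' ≫ V.map g = 𝟙 _ := by
    ext x
    exact hσ x
  have h2 : (constantSheaf J (Type u)).map σ' ≫ (constantSheaf J (Type u)).map (V.map g) = 𝟙 _ := by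
    rw [← CategoryTheory.Functor.map_comp, h1, CategoryTheory.Functor.map_id]
  have nat := e.hom.naturality g
  -- evaluate at `U`
  have natU := congrArg (fun φ => Γ.map φ) nat
  have h2U := congrArg (fun φ => Γ.map φ) h2
  simp only [CategoryTheory.Functor.map_comp, CategoryTheory.Functor.map_id] at natU h2U
  intro y
  -- transport `y`
  let y' := (Γ.map (e.hom.app C')) y
  let x' := (Γ.map ((constantSheaf J (Type u)).map σ')) y'
  let x := (Γ.map (e.inv.app B)) x'
  refine ⟨x, ?_⟩
  have hinj : Function.Injective (Γ.map (e.hom.app C')) := by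
    have : IsIso (Γ.map (e.hom.app C')) := inferInstance
    exact ((isIso_iff_bijective _).mp this).1
  apply hinj
  have e1 := ConcreteCategory.congr_hom natU x
  have e2 := ConcreteCategory.congr_hom h2U y'
  have e3 : (Γ.map (e.hom.app B)) x = x' := by
    change (Γ.map (e.inv.app B) ≫ Γ.map (e.hom.app B)) x' = x'
    rw [← CategoryTheory.Functor.map_comp, ← NatTrans.comp_app, e.inv_hom_id]
    simp
  simp only [types_comp_apply, types_id_apply] at e1 e2
  rw [e3] at e1
  exact e1.trans e2


theorem main (S : ShortComplex AddCommGrpCat.{u}) (hS : S.ShortExact) (U : C)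
    [(constantSheaf J AddCommGrpCat.{u} ⋙
      (sheafSections J AddCommGrpCat.{u}).obj (op U)).PreservesZeroMorphisms] :
    (S.map (constantSheaf J AddCommGrpCat.{u} ⋙
      (sheafSections J AddCommGrpCat.{u}).obj (op U))).ShortExact := by
  have hmono := hS.mono_f
  have hepi := hS.epi_g
  have hex : (S.map (constantSheaf J AddCommGrpCat.{u} ⋙
      (sheafSections J AddCommGrpCat.{u}).obj (op U))).Exact :=
    hS.exact.map_of_mono_of_preservesKernel _ hmono inferInstance
  refine ShortComplex.ShortExact.mk' hex ?_ ?_
  · change Mono ((constantSheaf J AddCommGrpCat.{u} ⋙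
      (sheafSections J AddCommGrpCat.{u}).obj (op U)).map S.f)
    infer_instance
  · change Epi (((constantSheaf J AddCommGrpCat.{u}).map S.g).hom.app (op U))
    rw [AddCommGrpCat.epi_iff_surjective]
    exact surjective_sections J _ _ S.g ((AddCommGrpCat.epi_iff_surjective _).mp hepi) U

end Groth.Agent.H5.ConstSh
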